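import Mathlib
import Groth.Agent.FibFlat.Stalk
import Groth.Agent.FlatLocus.Basic

/-!
Filtered families of immersions which exhaust all infinitesimal fibres.
-/

set_option autoImplicit false
set_option backward.isDefEq.respectTransparency false
set_option backward.isDefEq.respectTransparency.types false

universe u

open AlgebraicGeometry CategoryTheory CategoryTheory.Limits IsLocalRing

namespace Groth.Agent.FilImm7

open FibFlat

theorem sm_fromSpecStalk {Z X : Scheme.{u}} (x : Z ⟶ X) (z : Z) (η : X) (h : x z = η) :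
    Z.fromSpecStalk z ≫ x = Spec.map (CommRingCat.ofHom (sm x z η h)) ≫ X.fromSpecStalk η := by
  subst h
  rw [sm_self, ← Scheme.SpecMap_stalkMap_fromSpecStalk]
  rfl

/-- A factorisation of a map to `X` from a local scheme, read on local rings. -/
theorem comp_eq_of_factor {Z X : Scheme.{u}} (x : Z ⟶ X) (z : Z) (η : X) (h : x z = η) {R : CommRingCat.{u}}
    (q : X.presheaf.stalk η ⟶ R) (q' : Z.presheaf.stalk z ⟶ R)
    (e : Spec.map q' ≫ Z.fromSpecStalk z ≫ x = Spec.map q ≫ X.fromSpecStalk η) :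
    q = CommRingCat.ofHom (sm x z η h) ≫ q' := by
  refine Spec.map_injective ((cancel_mono (X.fromSpecStalk η)).1 ?_)
  rw [← e, sm_fromSpecStalk x z η h, Spec.map_comp, Category.assoc]

/-- An ideal which vanishes at all non-maximal primes meets a power of the maximal ideal trivially. -/
theorem exists_pow_inf_eq_bot {R : Type u} [CommRing R] [IsNoetherianRing R] [IsLocalRing R] (I : Ideal R)
    (h : ∀ p : Ideal R, p.IsPrime → p ≠ maximalIdeal R → ∀ a ∈ I, ∃ s, s ∉ p ∧ s * a = 0) :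
    ∃ N : ℕ, maximalIdeal R ^ N ⊓ I = ⊥ := by
  classical
  let A : Ideal R := (⊥ : Ideal R).colon (I : Set R)
  have hA : maximalIdeal R ≤ A.radical := by
    rw [Ideal.radical_eq_sInf]
    refine le_sInf fun p ⟨hAp, hp⟩ => ?_
    by_contra hne
    have hne' : p ≠ maximalIdeal R := fun e => hne e.ge
    obtain ⟨G, hG⟩ := (IsNoetherian.noetherian I : I.FG)
    have hmem : ∀ a ∈ G, a ∈ I := fun a ha => hG ▸ Submodule.subset_span ha
    choose! s hs hsa using fun a (ha : a ∈ G) => h p hp hne' a (hmem a ha)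
    have hprod : ∏ a ∈ G, s a ∉ p := fun hm => by
      obtain ⟨a, ha, ha'⟩ := hp.prod_mem_iff.1 hm
      exact hs a ha ha'
    refine hprod (hAp (Submodule.mem_colon.2 fun a ha => ?_))
    rw [Submodule.mem_bot, smul_eq_mul]
    have ha' : a ∈ Submodule.span R (G : Set R) := hG.symm ▸ ha
    induction ha' using Submodule.span_induction with
    | mem b hb =>
      obtain ⟨c, hc⟩ := Finset.dvd_prod_of_mem s hb
      rw [hc, mul_comm (s b), mul_assoc, hsa b hb, mul_zero]
    | zero => rw [mul_zero]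
    | add b c _ _ hb hc =>
      rw [mul_add, hb (hG ▸ ‹b ∈ Submodule.span R (G : Set R)›), hc (hG ▸ ‹c ∈ Submodule.span R (G : Set R)›), add_zero]
    | smul r b _ hb =>
      rw [smul_eq_mul, mul_left_comm, hb (hG ▸ ‹b ∈ Submodule.span R (G : Set R)›), mul_zero]
  obtain ⟨k, hk⟩ := Ideal.exists_pow_le_of_le_radical_of_fg hA (IsNoetherian.noetherian _)
  obtain ⟨c, hc⟩ := Ideal.exists_pow_inf_eq_pow_smul (M := R) (maximalIdeal R) I
  refine ⟨k + c, eq_bot_iff.2 ?_⟩
  have h1 := hc (k + c) (Nat.le_add_left c k)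
  simp only [Nat.add_sub_cancel, smul_eq_mul, Ideal.mul_top] at h1
  rw [h1]
  refine (Ideal.mul_mono hk inf_le_right).trans (Ideal.mul_le.2 fun a ha b hb => ?_)
  exact (Submodule.mem_bot R).2 (by
    have := Submodule.mem_colon.1 ha b hb
    simpa [smul_eq_mul] using this)

variable {S X : Scheme.{u}} {D : Type u} [Preorder D]

/-- The points near which `x` is a local isomorphism. -/
def good {Z : Scheme.{u}} (x : Z ⟶ X) : Set X :=
  x '' {z | (x.stalkMap z).hom.Flat}

theorem mem_good_of_le {Z Z' : Scheme.{u}} (x : Z ⟶ X) (x' : Z' ⟶ X) [IsImmersion x'] (t : Z ⟶ Z')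
    (ht : t ≫ x' = x) {p : X} (h : p ∈ good x) : p ∈ good x' := by
  obtain ⟨z, hz, rfl⟩ := h
  have hp : x' (t z) = x z := by rw [← Scheme.Hom.comp_apply, ht]
  refine ⟨t z, ?_, hp⟩
  have hinj := injective_sm_of_flat x z (x z) rfl ((sm_flat_iff x z _ rfl).2 hz)
  rw [sm_congr ht.symm z (x z) rfl, sm_comp t x' z (t z) (x z) rfl hp, RingHom.coe_comp] at hinj
  show (x'.stalkMap (t z)).hom.Flat
  rw [← sm_flat_iff x' (t z) (x z) hp]
  exact RingHom.Flat.of_bijective ⟨hinj.of_comp, surjective_sm _ _ _⟩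

theorem isOpen_good {Z : Scheme.{u}} (x : Z ⟶ X) [IsImmersion x] [LocallyOfFinitePresentation x] :
    IsOpen (good x) ∧ ∀ {R : CommRingCat.{u}} [IsLocalRing R] (e : Spec R ⟶ X), e (closedPoint R) ∈ good x →
      ∃ v : Spec R ⟶ Z, v ≫ x = e := by
  let V : Z.Opens := ⟨{z | (x.stalkMap z).hom.Flat}, FlatLocus.isOpen_flat_locus x⟩
  have hfl : Flat (V.ι ≫ x) := Flat.of_stalkMap _ fun z => by
    rw [Scheme.Hom.stalkMap_comp]
    exact (FlatLocus.flat_comp_isIso _ _).2 z.2
  haveI : IsOpenImmersion (V.ι ≫ x) := IsOpenImmersion.of_flat_of_mono _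
  have hr : Set.range (V.ι ≫ x) = good x := by
    rw [Scheme.Hom.comp_base, TopCat.coe_comp, Set.range_comp, Scheme.Opens.range_ι]
    rfl
  refine ⟨hr ▸ (V.ι ≫ x).isOpenEmbedding.isOpen_range, fun {R} _ e he => ?_⟩
  have hrange : Set.range e ⊆ Set.range (V.ι ≫ x) := by
    rintro _ ⟨p, rfl⟩
    refine ((IsLocalRing.specializes_closedPoint p).map e.continuous).mem_open
      (V.ι ≫ x).isOpenEmbedding.isOpen_range ?_
    rw [hr]
    exact he
  exact ⟨IsOpenImmersion.lift (V.ι ≫ x) e hrange ≫ V.ι, by rw [Category.assoc, IsOpenImmersion.lift_fac]⟩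

/-- The theorem. -/
theorem exists_isIso [IsNoetherian S] (f : X ⟶ S) [LocallyQuasiFinite f] [LocallyOfFiniteType f] [QuasiCompact f]
    [IsDirected D (fun a b => a ≤ b)] [Nonempty D] (Xi : D → Scheme.{u}) (x : ∀ i, Xi i ⟶ X)
    (hx : ∀ i, IsImmersion (x i)) (hmono : ∀ i j, i ≤ j → ∃ t : Xi i ⟶ Xi j, t ≫ x j = x i)
    (h : ∀ (s : S) (n : ℕ), ∃ i : D,
      IsIso (pullback.snd (x i) (pullback.fst f
        (Spec.map (CommRingCat.ofHom (Ideal.Quotient.mk (IsLocalRing.maximalIdeal (S.presheaf.stalk s) ^ (n + 1)))) ≫ S.fromSpecStalk s)))) :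
    ∃ i : D, IsIso (x i) := by
  classical
  haveI : IsNoetherian X :=
    { toIsLocallyNoetherian := LocallyOfFiniteType.isLocallyNoetherian f
      toCompactSpace := QuasiCompact.compactSpace_of_compactSpace f }
  haveI := hx
  haveI : ∀ i, IsLocallyNoetherian (Xi i) := fun i => LocallyOfFiniteType.isLocallyNoetherian (x i)
  -- the test maps factor
  have htest : ∀ (η : X) (n : ℕ) (s : S) (hs : f η = s), ∃ (j : D) (z : Xi j) (hz : x j z = η),
      RingHom.ker (sm (x j) z η hz) ≤ (maximalIdeal (S.presheaf.stalk s) ^ (n + 1)).map (sm f η s hs) := by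
    intro η n s hs
    obtain ⟨j, hj⟩ := h s n
    let g := Spec.map (CommRingCat.ofHom (Ideal.Quotient.mk (maximalIdeal (S.presheaf.stalk s) ^ (n + 1)))) ≫ S.fromSpecStalk s
    let J := (maximalIdeal (S.presheaf.stalk s) ^ (n + 1)).map (sm f η s hs)
    have hJ : J ≤ maximalIdeal _ :=
      (Ideal.map_mono (Ideal.pow_le_self (Nat.succ_ne_zero n))).trans (map_maximalIdeal_le _)
    haveI : Nontrivial (X.presheaf.stalk η ⧸ J) :=
      Ideal.Quotient.nontrivial_iff.2 fun e => (maximalIdeal.isMaximal _).ne_top (top_le_iff.1 (e ▸ hJ))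
    haveI : IsLocalRing (X.presheaf.stalk η ⧸ J) := IsLocalRing.of_surjective' _ Ideal.Quotient.mk_surjective
    let q : X.presheaf.stalk η ⟶ CommRingCat.of (X.presheaf.stalk η ⧸ J) := CommRingCat.ofHom (Ideal.Quotient.mk J)
    let e : Spec (CommRingCat.of (X.presheaf.stalk η ⧸ J)) ⟶ X := Spec.map q ≫ X.fromSpecStalk η
    let w : CommRingCat.of (S.presheaf.stalk s ⧸ maximalIdeal (S.presheaf.stalk s) ^ (n + 1)) ⟶
        CommRingCat.of (X.presheaf.stalk η ⧸ J) :=
      CommRingCat.ofHom (Ideal.quotientMap J (sm f η s hs) Ideal.le_comap_map)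
    have hw : e ≫ f = Spec.map w ≫ g := by
      simp only [e, g, Category.assoc]
      rw [sm_fromSpecStalk f η s hs, ← Category.assoc, ← Category.assoc, ← Spec.map_comp, ← Spec.map_comp]
      rfl
    let u := pullback.lift e (Spec.map w) hw ≫ inv (pullback.snd (x j) (pullback.fst f g)) ≫
      pullback.fst (x j) (pullback.fst f g)
    have hu : u ≫ x j = e := by
      simp only [u, Category.assoc]
      rw [pullback.condition, IsIso.inv_hom_id_assoc, pullback.lift_fst]
    let z := u (closedPoint (CommRingCat.of (X.presheaf.stalk η ⧸ J)))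
    have hz : x j z = η := by
      simp only [z, ← Scheme.Hom.comp_apply, hu]
      simp only [e, Scheme.Hom.comp_apply]
      haveI : IsLocalHom q.hom := IsLocalHom.of_surjective _ Ideal.Quotient.mk_surjective
      rw [Spec_closedPoint, Scheme.fromSpecStalk_closedPoint]
    refine ⟨j, z, hz, fun a ha => ?_⟩
    have he := comp_eq_of_factor (x j) z η hz q (Scheme.stalkClosedPointTo u)
      (by rw [← Category.assoc, Scheme.Spec_stalkClosedPointTo_fromSpecStalk, hu])
    have h2 : q.hom a = 0 := by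
      rw [he]
      show (Scheme.stalkClosedPointTo u).hom (sm (x j) z η hz a) = 0
      rw [RingHom.mem_ker.1 ha, map_zero]
    exact Ideal.Quotient.eq_zero_iff_mem.1 h2
  have hmg : ∀ i j, i ≤ j → good (x i) ⊆ good (x j) := fun i j hij p hp => by
    obtain ⟨t, ht⟩ := hmono i j hij
    exact mem_good_of_le (x i) (x j) t ht hp
  let W : D → TopologicalSpace.Opens X := fun i => ⟨good (x i), (isOpen_good (x i)).1⟩
  obtain ⟨_, ⟨i₀, rfl⟩, hmax⟩ := wellFounded_gt.has_min (Set.range W) (Set.range_nonempty W)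
  have hW : ∀ i, good (x i) ⊆ good (x i₀) := by
    intro i
    obtain ⟨k, hik, hk⟩ := IsDirected.directed (r := fun a b : D => a ≤ b) i i₀
    have : ¬ W i₀ < W k := hmax _ ⟨k, rfl⟩
    have he : W i₀ = W k := eq_of_le_of_not_lt (hmg i₀ k hk) this
    exact (hmg i k hik).trans (le_of_eq (congrArg (fun o : TopologicalSpace.Opens X => (o : Set X)) he.symm))
  by_cases huniv : ∀ p, p ∈ good (x i₀)
  · refine ⟨i₀, ?_⟩
    haveI : Surjective (x i₀) := ⟨fun p => let ⟨z, _, hz⟩ := huniv p; ⟨z, hz⟩⟩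
    haveI : Flat (x i₀) := Flat.of_stalkMap _ fun z => by
      obtain ⟨z', hz', e⟩ := huniv (x i₀ z)
      exact (x i₀).isEmbedding.injective e ▸ hz'
    haveI := IsOpenImmersion.of_flat_of_mono (x i₀)
    haveI : Epi (x i₀).base := ConcreteCategory.epi_of_surjective _ (x i₀).surjective
    exact IsOpenImmersion.isIso _
  exfalso
  push Not at huniv
  obtain ⟨p₁, hp₁⟩ := huniv
  -- a point all of whose proper generizations are good
  obtain ⟨η, hη, hgen⟩ : ∃ η, η ∉ good (x i₀) ∧ ∀ p, p ⤳ η → p ≠ η → p ∈ good (x i₀) := by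
    obtain ⟨I₀, hI₀⟩ := (PrimeSpectrum.isClosed_iff_zeroLocus_ideal _).1
      ((W i₀).isOpen.isClosed_compl.preimage (X.fromSpecStalk p₁).continuous)
    have hclosed : I₀ ≤ maximalIdeal _ := by
      have : closedPoint (X.presheaf.stalk p₁) ∈ (X.fromSpecStalk p₁) ⁻¹' ((W i₀ : Set X)ᶜ) := by
        rw [Set.mem_preimage, Scheme.fromSpecStalk_closedPoint]
        exact hp₁
      exact (hI₀ ▸ this :)
    obtain ⟨P, hP, -⟩ := Ideal.exists_minimalPrimes_le hclosed
    haveI := hP.1.1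
    refine ⟨X.fromSpecStalk p₁ ⟨P, hP.1.1⟩, ?_, fun p hp hne => ?_⟩
    · have : (⟨P, hP.1.1⟩ : PrimeSpectrum _) ∈ PrimeSpectrum.zeroLocus (I₀ : Set (X.presheaf.stalk p₁)) := hP.1.2
      rw [← hI₀] at this
      exact this
    · obtain ⟨Q, rfl⟩ : p ∈ Set.range (X.fromSpecStalk p₁) := by
        rw [Scheme.range_fromSpecStalk]
        exact hp.trans (by
          have : X.fromSpecStalk p₁ ⟨P, hP.1.1⟩ ∈ Set.range (X.fromSpecStalk p₁) := ⟨_, rfl⟩
          rwa [Scheme.range_fromSpecStalk] at this)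
      by_contra hQ
      have hQI : Q ∈ PrimeSpectrum.zeroLocus (I₀ : Set (X.presheaf.stalk p₁)) := hI₀ ▸ hQ
      have hQP : Q.asIdeal ≤ P :=
        (PrimeSpectrum.le_iff_specializes Q ⟨P, hP.1.1⟩).2
          ((X.fromSpecStalk p₁).isEmbedding.toIsInducing.specializes_iff.1 hp)
      exact hne (congrArg _ (PrimeSpectrum.ext (le_antisymm hQP (hP.2 ⟨Q.isPrime, hQI⟩ hQP))))
  obtain ⟨j₁, z₁, hz₁, -⟩ := htest η 0 (f η) rfl
  obtain ⟨i₁, hi₁, hji₁⟩ := IsDirected.directed (r := fun a b : D => a ≤ b) i₀ j₁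
  obtain ⟨t₁, ht₁⟩ := hmono j₁ i₁ hji₁
  have hz : x i₁ (t₁ z₁) = η := by rw [← Scheme.Hom.comp_apply, ht₁, hz₁]
  let O := X.presheaf.stalk η
  let I : Ideal O := RingHom.ker (sm (x i₁) (t₁ z₁) η hz)
  have hI : ∀ p : Ideal O, p.IsPrime → p ≠ maximalIdeal O → ∀ a ∈ I, ∃ s, s ∉ p ∧ s * a = 0 := by
    intro p hp hne a ha
    let R' : CommRingCat.{u} := CommRingCat.of (Localization.AtPrime p)
    let q : O ⟶ R' := CommRingCat.ofHom (algebraMap O (Localization.AtPrime p))
    let e : Spec R' ⟶ X := Spec.map q ≫ X.fromSpecStalk η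
    have hpt : e (closedPoint R') = X.fromSpecStalk η ⟨p, hp⟩ := by
      simp only [e, Scheme.Hom.comp_apply]
      congr 1
      exact PrimeSpectrum.ext (Localization.AtPrime.comap_maximalIdeal (I := p))
    have hsp : X.fromSpecStalk η ⟨p, hp⟩ ⤳ η := by
      have : X.fromSpecStalk η ⟨p, hp⟩ ∈ Set.range (X.fromSpecStalk η) := ⟨_, rfl⟩
      rwa [Scheme.range_fromSpecStalk] at this
    have hmem : e (closedPoint R') ∈ good (x i₁) := by
      rw [hpt]
      refine hmg i₀ i₁ hi₁ (hgen _ hsp fun e' => hne ?_)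
      have := (X.fromSpecStalk η).isEmbedding.injective (e'.trans Scheme.fromSpecStalk_closedPoint.symm)
      exact congrArg PrimeSpectrum.asIdeal this
    obtain ⟨v, hv⟩ := (isOpen_good (x i₁)).2 e hmem
    have hsp' : v (closedPoint R') ⤳ t₁ z₁ := by
      rw [← (x i₁).isEmbedding.toIsInducing.specializes_iff, hz, ← Scheme.Hom.comp_apply, hv, hpt]
      exact hsp
    have hq := comp_eq_of_factor (x i₁) (t₁ z₁) η hz q
      ((Xi i₁).presheaf.stalkSpecializes hsp' ≫ Scheme.stalkClosedPointTo v) (by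
        rw [Spec.map_comp, Category.assoc, ← Category.assoc (Spec.map ((Xi i₁).presheaf.stalkSpecializes hsp')),
          Scheme.SpecMap_stalkSpecializes_fromSpecStalk, ← Category.assoc,
          Scheme.Spec_stalkClosedPointTo_fromSpecStalk, hv])
    have h0 : algebraMap O (Localization.AtPrime p) a = 0 := by
      show q.hom a = 0
      rw [hq]
      show ((Xi i₁).presheaf.stalkSpecializes hsp' ≫ Scheme.stalkClosedPointTo v).hom (sm (x i₁) (t₁ z₁) η hz a) = 0
      rw [RingHom.mem_ker.1 ha, map_zero]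
    obtain ⟨m, hm⟩ := (IsLocalization.map_eq_zero_iff p.primeCompl _ a).1 h0
    exact ⟨m, m.2, hm⟩
  obtain ⟨N, hN⟩ := exists_pow_inf_eq_bot I hI
  obtain ⟨j₂, z₂, hz₂, hker⟩ := htest η N (f η) rfl
  obtain ⟨i₂, hi₂, hji₂⟩ := IsDirected.directed (r := fun a b : D => a ≤ b) i₁ j₂
  obtain ⟨t₂, ht₂⟩ := hmono j₂ i₂ hji₂
  obtain ⟨t₃, ht₃⟩ := hmono i₁ i₂ hi₂
  have hz' : x i₂ (t₂ z₂) = η := by rw [← Scheme.Hom.comp_apply, ht₂, hz₂]
  have hz'' : t₃ (t₁ z₁) = t₂ z₂ :=
    (x i₂).isEmbedding.injective (by rw [hz', ← Scheme.Hom.comp_apply, ht₃, hz])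
  have hle1 : RingHom.ker (sm (x i₂) (t₂ z₂) η hz') ≤ RingHom.ker (sm (x j₂) z₂ η hz₂) := by
    rw [sm_congr ht₂.symm z₂ η hz₂, sm_comp t₂ (x i₂) z₂ (t₂ z₂) η rfl hz']
    intro a ha
    rw [RingHom.mem_ker, RingHom.comp_apply, RingHom.mem_ker.1 ha, map_zero]
  have hle2 : RingHom.ker (sm (x i₂) (t₂ z₂) η hz') ≤ I := by
    show _ ≤ RingHom.ker (sm (x i₁) (t₁ z₁) η hz)
    rw [sm_congr ht₃.symm (t₁ z₁) η hz, sm_comp t₃ (x i₂) (t₁ z₁) (t₂ z₂) η hz'' hz']
    intro a ha
    rw [RingHom.mem_ker, RingHom.comp_apply, RingHom.mem_ker.1 ha, map_zero]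
  have hbot : RingHom.ker (sm (x i₂) (t₂ z₂) η hz') = ⊥ := by
    rw [eq_bot_iff, ← hN]
    refine le_inf ((hle1.trans hker).trans ?_) hle2
    rw [Ideal.map_pow]
    exact (Ideal.pow_right_mono (map_maximalIdeal_le _) _).trans (Ideal.pow_le_pow_right (Nat.le_succ N))
  refine hη (hW i₂ ⟨t₂ z₂, ?_, hz'⟩)
  show ((x i₂).stalkMap (t₂ z₂)).hom.Flat
  rw [← sm_flat_iff (x i₂) (t₂ z₂) η hz']
  exact RingHom.Flat.of_bijective ⟨(RingHom.injective_iff_ker_eq_bot _).2 hbot, surjective_sm _ _ _⟩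

end Groth.Agent.FilImm7
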